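import Cfsg.Agent.Lib.PermComp.OutP.J1.Data

set_option autoImplicit false
set_option maxRecDepth 100000
set_option maxHeartbeats 0

namespace Cfsg.Agent.Lib.PermComp.OutP.J1

open Cfsg Cfsg.Agent.Lib.PermComp.OutP
open Cfsg.Agent.Lib.PermComp.Core (force)
open Cfsg.Agent.Lib.PermComp.Kron (rangeAll)

theorem dL0_lv : rangeAll (levOK n F dL0) 0 266 = true := by decide +kernel
theorem dL0_fx : fixOK F 0 2 [] = true := by decide +kernel
theorem dL1_lv : rangeAll (levOK n F dL1) 0 132 = true := by decide +kernel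
theorem dL1_fx : fixOK F 2 3 [0] = true := by decide +kernel
theorem dL2_lv : rangeAll (levOK n F dL2) 0 5 = true := by decide +kernel
theorem dL2_fx : fixOK F 5 2 [1, 0] = true := by decide +kernel
theorem cL0_lv : rangeAll (levOK n F cL0) 0 120 = true := by decide +kernel
theorem cL0_fx : fixOK F 16 3 [] = true := by decide +kernel
theorem cL0_cm : rangeAll (fun g => rangeAll (fun q => Nat.beq (F g (F 1 q)) (F 1 (F g q))) 0 266) 16 3 = true := by decide +kernel
theorem zinv_ck : rangeAll (fun g => rangeAll (fun q => Nat.beq (F g (F g q)) q) 0 266) 23 4 = true := by decide +kernel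
theorem b2_ck : rangeAll (fun q => Nat.beq (F 1 (F 1 q)) q) 0 266 = true := by decide +kernel
theorem Ap_ck : rangeAll (fun q => Nat.beq (powA (F 0) 19 q) q) 0 266 = true := by decide +kernel
theorem b1_ck : F 1 0 ≠ 0 := by decide +kernel
theorem A1_ck : F 0 0 ≠ 0 := by decide +kernel
theorem rel_ck : Core.allL (fun r => rangeAll (relAll (F 0) (F 1) r.1 r.2.1) 0 266) rs = true := by decide +kernel
theorem good_ck : Core.allL (fun x => Core.ifB (Nat.ble x.2 19) (goodOK F DD 0 19 Bs x)) goods = true := by decide +kernel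
theorem cr_ck : rangeAll (fun q => Nat.beq (F 39 (F 0 q)) (powA (F 0) 8 (F 39 q))) 0 266 = true := by decide +kernel

end Cfsg.Agent.Lib.PermComp.OutP.J1
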