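import Cfsg.Agent.Lib.PermComp.OutP.J1.Data

set_option autoImplicit false
set_option maxRecDepth 100000
set_option maxHeartbeats 0

namespace Cfsg.Agent.Lib.PermComp.OutP.J1

open Cfsg Cfsg.Agent.Lib.PermComp.OutP
open Cfsg.Agent.Lib.PermComp.Core (force)
open Cfsg.Agent.Lib.PermComp.Kron (rangeAll)

theorem r2_c0 : rangeAll (fun i => relAny (powA (F 0) 2) (DD.v F i) (R2.getD 0 (0, [])).2) 0 1463 = true := by decide +kernel
theorem r2_c1 : rangeAll (fun i => relAny (powA (F 0) 4) (DD.v F i) (R2.getD 1 (0, [])).2) 0 1463 = true := by decide +kernel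

end Cfsg.Agent.Lib.PermComp.OutP.J1
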