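import Cfsg.Agent.Lib.PermComp.OutP.J1.ChkT
import Cfsg.Agent.Lib.PermComp.OutP.J1.ChkL
import Cfsg.Agent.Lib.PermComp.OutP.J1.ChkS
import Cfsg.Agent.Lib.PermComp.OutP.J1.ChkR
import Cfsg.Agent.Lib.PermComp.OutP.J1.ChkO
import Cfsg.Agent.Lib.PermComp.OutP.J1.ChkP

set_option autoImplicit false
set_option maxRecDepth 100000
set_option maxHeartbeats 0

namespace Cfsg.Agent.Lib.PermComp.OutP.J1

open Cfsg Cfsg.Agent.Lib.PermComp.OutP
open Cfsg.Agent.Lib.PermComp.Core (force)
open Cfsg.Agent.Lib.PermComp.Kron (rangeAll rangeAll_spec)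

theorem hn : 0 < n := by decide

theorem hlt : ∀ g < 40, 2 ≤ g → ∀ a ∈ prog g, a < g := by
  intro g hg _ a ha
  have h := range_of (p := fun g => Core.allL (fun a => Nat.blt a g) (prog g)) (lo := 0) (len := 40) (hi := 40) hlt_ck rfl g (Nat.zero_le _) hg
  exact blt_lt ((Core.allL_eq_true _ _).1 h a ha)

theorem hp : ∀ g < 40, 2 ≤ g → ∀ q < 266, F g q = wApp F (prog g) q := by
  intro g hg h2 q hq
  have h : progR F g (prog g) 0 266 = true := by
    interval_cases g
    · exact hp_2
    · exact hp_3
    · exact hp_4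
    · exact hp_5
    · exact hp_6
    · exact hp_7
    · exact hp_8
    · exact hp_9
    · exact hp_10
    · exact hp_11
    · exact hp_12
    · exact hp_13
    · exact hp_14
    · exact hp_15
    · exact hp_16
    · exact hp_17
    · exact hp_18
    · exact hp_19
    · exact hp_20
    · exact hp_21
    · exact hp_22
    · exact hp_23
    · exact hp_24
    · exact hp_25
    · exact hp_26
    · exact hp_27
    · exact hp_28
    · exact hp_29
    · exact hp_30
    · exact hp_31
    · exact hp_32
    · exact hp_33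
    · exact hp_34
    · exact hp_35
    · exact hp_36
    · exact hp_37
    · exact hp_38
    · exact hp_39
  exact Nat.eq_of_beq_eq_true (rangeAll_spec h q (Nat.zero_le _) (by omega))

theorem hds : LevsC n 40 F [] ds := ⟨fun s hs => range_of (p := levOK n F dL0) (lo := 0) (len := 266) (hi := 266) dL0_lv rfl s (Nat.zero_le _) hs, by decide +kernel, by decide +kernel, dL0_fx, by decide +kernel, ⟨fun s hs => range_of (p := levOK n F dL1) (lo := 0) (len := 132) (hi := 132) dL1_lv rfl s (Nat.zero_le _) hs, by decide +kernel, by decide +kernel, dL1_fx, by decide +kernel, ⟨fun s hs => range_of (p := levOK n F dL2) (lo := 0) (len := 5) (hi := 5) dL2_lv rfl s (Nat.zero_le _) hs, by decide +kernel, by decide +kernel, dL2_fx, by decide +kernel, trivial⟩⟩⟩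

theorem hcs : LevsC n 40 F [] cs := ⟨fun s hs => range_of (p := levOK n F cL0) (lo := 0) (len := 120) (hi := 120) cL0_lv rfl s (Nat.zero_le _) hs, by decide +kernel, by decide +kernel, cL0_fx, by decide +kernel, trivial⟩

theorem hdsm : ∀ d ∈ ds, d.off + d.cnt ≤ 40 := by
  have h : Core.allL (fun d => Nat.ble (d.off + d.cnt) 40) ds = true := by decide +kernel
  exact fun d hd => Nat.le_of_ble_eq_true ((Core.allL_eq_true _ _).1 h d hd)

theorem hcomm : ∀ d ∈ cs, d.off + d.cnt ≤ 40 ∧ ∀ g, d.off ≤ g → g < d.off + d.cnt → ∀ q < 266, F g (F 1 q) = F 1 (F g q) := by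
  intro d hd
  simp only [cs, List.mem_cons, List.not_mem_nil, or_false] at hd
  rcases hd with rfl
  · refine ⟨by decide +kernel, fun g h1 h2 q hq => ?_⟩
    have h := rangeAll_spec cL0_cm g h1 (by simpa [cL0] using h2)
    exact Nat.eq_of_beq_eq_true (rangeAll_spec h q (Nat.zero_le _) (by simpa [n] using hq))

theorem hsort : ∀ j, j + 1 < DD.L → DD.key n F j < DD.key n F (j + 1) := by
  have h : ∀ j, 0 ≤ j → j < 1462 → DD.key n F j < DD.key n F (j + 1) := by
    exact (fun j h1 h2 => sortR_spec srt_c0 j h1 (by omega))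
  intro j hj
  have hL : DD.L = 1463 := rfl
  exact h j (Nat.zero_le _) (by omega)

theorem hD : DD.OK n 40 F where
  ht0 := by decide +kernel
  hcnt := by decide +kernel
  hoff := by decide +kernel
  hQ := by
    have h : Core.allL (fun q => Nat.blt q n) DD.Q = true := by decide +kernel
    exact fun q hq => blt_lt ((Core.allL_eq_true _ _).1 h q hq)
  hinvol := by
    intro g h1 h2 p hp
    have h := rangeAll_spec zinv_ck g h1 (by simpa [DD] using h2)
    exact Nat.eq_of_beq_eq_true (rangeAll_spec h p (Nat.zero_le _) (by simpa [n] using hp))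
  hsort := hsort

theorem hS : SS.OK n 40 DD.L F (DD.v F) (othF F []) (othB []) Bs where
  hcnt := by decide +kernel
  hoff := by decide +kernel
  hr0 := by decide +kernel
  hBs := by
    have h : Core.allL (fun q => Nat.blt q n) Bs = true := by decide +kernel
    exact fun q hq => blt_lt ((Core.allL_eq_true _ _).1 h q hq)
  hclose := fun i hi => rangeAll_spec scl_ck i (Nat.zero_le _) (by simpa [SS] using hi)
  hsort := by
    intro j hj
    exact sortR_spec ssr_ck j (Nat.zero_le _) (by have : SS.P = 8 := rfl; omega)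
  hkind := fun i hi => rangeAll_spec skd_ck i (Nat.zero_le _) (by simpa [SS] using hi)

theorem hC : Common n 40 175560 120 3 21945 19 F prog ds cs DD SS Bs [] rs goods where
  hn := hn
  hm1 := by decide
  hlt := hlt
  hp := hp
  hds := hds
  hdsm := hdsm
  hprod := by decide +kernel
  hBs := by decide +kernel
  hDt := rfl
  hD := hD
  hcs := hcs
  hcomm := hcomm
  hc := by decide +kernel
  hLc := by decide +kernel
  hS := hS
  hP := by decide +kernel
  hN2 := by decide +kernel
  hmm := by norm_num
  hOs := by simp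
  hb2 := fun q hq => Nat.eq_of_beq_eq_true (rangeAll_spec b2_ck q (Nat.zero_le _) (by simpa [n] using hq))
  hb1 := ⟨0, by decide, b1_ck⟩
  hAp := fun q hq => Nat.eq_of_beq_eq_true (rangeAll_spec Ap_ck q (Nat.zero_le _) (by simpa [n] using hq))
  hA1 := ⟨0, by decide, A1_ck⟩
  hq := by
    have h : Core.allL (fun r => Nat.blt r.2.2 n) rs = true := by decide +kernel
    exact fun r hr => blt_lt ((Core.allL_eq_true _ _).1 h r hr)
  hchk := by
    intro i hi
    exact (range_of (p := (rchk F 0 DD rs goodIdx)) (lo := 0) (len := 1463) (hi := 1463) rc_c0 rfl) i (Nat.zero_le _) hi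
  hrel := by
    intro r hr q hq
    exact rangeAll_spec ((Core.allL_eq_true _ _).1 rel_ck r hr) q (Nat.zero_le _) (by simpa [n] using hq)
  hgood := by
    intro x hx
    have h := (Core.allL_eq_true _ _).1 good_ck x hx
    rw [Core.ifB_eq_true] at h
    exact ⟨Nat.le_of_ble_eq_true h.1, h.2⟩

theorem hcr : ∀ q < n, F 39 (F 0 q) = powA (F 0) 8 (F 39 q) := fun q hq =>
  Nat.eq_of_beq_eq_true (rangeAll_spec cr_ck q (Nat.zero_le _) (by simpa [n] using hq))

instance fp : Fact (Nat.Prime 19) := ⟨by norm_num⟩

theorem hR2 : ∀ x ∈ R2, (∀ r ∈ x.2, (r.1, r.2.1) ∈ rs.map (fun r => (r.1, r.2.1)) ∧ r.2.2 < n) ∧ ∀ i < DD.L, relAny (powA (F 0) x.1) (DD.v F i) x.2 = true := by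
  intro x hx
  simp only [R2, List.mem_cons, List.not_mem_nil, or_false] at hx
  rcases hx with rfl | rfl
  · refine ⟨by decide +kernel, fun i hi => rangeAll_spec r2_c0 i (Nat.zero_le _) hi⟩
  · refine ⟨by decide +kernel, fun i hi => rangeAll_spec r2_c1 i (Nat.zero_le _) hi⟩

/-- The main theorem. -/
theorem main {H : Subgroup (Equiv.Perm (Fin 266))} (hcard : Nat.card H = 175560) {A b : Equiv.Perm (Fin 266)} (hA : A ∈ H) (hb : b ∈ H) (rA : Rp (F 0) A) (rb : Rp (F 1) b) : Nat.card (Out H) = 1 := by
  refine master_one hC hcard hA hb rA rb (gc := 39) (r := 8) (mp := 9240) (by decide) hcr (by decide +kernel) (by norm_num) R2 (by decide +kernel) hR2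

/-- The two generators are in a group containing the given generators. -/
theorem has_gens {H : Subgroup (Equiv.Perm (Fin 266))} (hX : ∀ g, 40 ≤ g → g < 42 → Has F H g) : Has F H 0 ∧ Has F H 1 := by
  have h2 : ∀ g, 40 ≤ g → g < 53 → Has F H g := by
    refine has_range hX prog2 ?_ ?_
    · intro g h1 h2
      have hb : Core.allL (fun g => Core.allL (fun a => Core.ifB (Nat.ble 40 a) (Nat.blt a g)) (prog2 g)) (List.range' 42 11) = true := by decide +kernel
      intro a ha
      have h3 := (Core.allL_eq_true _ _).1 ((Core.allL_eq_true _ _).1 hb g (List.mem_range'_1.2 ⟨h1, by omega⟩)) a ha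
      rw [Core.ifB_eq_true] at h3
      exact ⟨Nat.le_of_ble_eq_true h3.1, blt_lt h3.2⟩
    · intro g h1 h2 q hq
      have h : progR F g (prog2 g) 0 266 = true := by
        interval_cases g
        · exact hp2_42
        · exact hp2_43
        · exact hp2_44
        · exact hp2_45
        · exact hp2_46
        · exact hp2_47
        · exact hp2_48
        · exact hp2_49
        · exact hp2_50
        · exact hp2_51
        · exact hp2_52
      exact Nat.eq_of_beq_eq_true (rangeAll_spec h q (Nat.zero_le _) (by omega))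
  refine ⟨has_of_word (w := [43]) ?_ ?_, has_of_word (w := [52]) ?_ ?_⟩
  · intro a ha
    simp only [List.mem_singleton] at ha
    subst ha
    exact h2 _ (by norm_num) (by norm_num)
  · have h : rangeAll (fun q => Nat.beq (F 0 q) (wApp F [43] q)) 0 266 = true := by decide +kernel
    exact fun q hq => Nat.eq_of_beq_eq_true (rangeAll_spec h q (Nat.zero_le _) (by omega))
  · intro a ha
    simp only [List.mem_singleton] at ha
    subst ha
    exact h2 _ (by norm_num) (by norm_num)
  · have h : rangeAll (fun q => Nat.beq (F 1 q) (wApp F [52] q)) 0 266 = true := by decide +kernel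
    exact fun q hq => Nat.eq_of_beq_eq_true (rangeAll_spec h q (Nat.zero_le _) (by omega))

/-- The final theorem. -/
theorem card_out {H : Subgroup (Equiv.Perm (Fin 266))} (hcard : Nat.card H = 175560) (hX : ∀ g, 40 ≤ g → g < 42 → Has F H g) : Nat.card (Out H) = 1 := by
  obtain ⟨⟨A, hA, rA⟩, ⟨b, hb, rb⟩⟩ := has_gens hX
  exact main hcard hA hb rA rb

end Cfsg.Agent.Lib.PermComp.OutP.J1
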